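import Groth.Agent.Sga4h.H912.CoeffFrob
import Groth.Agent.Sga4h.H925.DetInv
import Mathlib.Algebra.Algebra.ZMod

/-!
# Constant coefficients: extension of the coefficient field

* `isExtSh_const`: the constant sheaf `Λ₂` is the coefficient extension of the constant sheaf `Λ`.
* `charRev_frob`: the reversed characteristic polynomial of Frobenius after extension of coefficients.
* `charRev_frob_const`, `charRev_frob_zmod`: constant sheaves; the case `ZMod p` to a finite field of characteristic `p`.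
-/

set_option autoImplicit false
universe u

open CategoryTheory CategoryTheory.Limits AlgebraicGeometry Opposite Polynomial

namespace Groth.Agent.Sga4h.H157.ConstExt

open Groth.Agent.Sga4h.H912.CoeffExt Groth.Agent.Sga4h.H912.CoeffSheaf Groth.Agent.Sga4h.H912.CoeffFrob

section Alg

theorem charRev_of_not_finite {Λ : Type} [Field Λ] {V : Type*} [AddCommGroup V] [Module Λ V]
    (h : ¬ Module.Finite Λ V) (φ : V →ₗ[Λ] V) : FinFr.charRev φ = 1 := by
  rw [FinFr.charRev]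
  refine LinearMap.det_eq_one_of_not_module_finite (R := Λ[X]) (M := TensorProduct Λ Λ[X] V) (fun hf => h ?_) _
  let b : Module.Basis (Module.Free.ChooseBasisIndex Λ V) Λ V := Module.Free.chooseBasis Λ V
  have := Module.Finite.finite_basis (b.baseChange Λ[X])
  exact Module.Finite.of_basis b

theorem map_charpolyRev {R S : Type*} [CommRing R] [CommRing S] (f : R →+* S) {n : Type*} [Fintype n] [DecidableEq n]
    (M : Matrix n n R) : M.charpolyRev.map f = (M.map f).charpolyRev := by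
  rw [Matrix.charpolyRev, Matrix.charpolyRev, ← Polynomial.coe_mapRingHom, RingHom.map_det]
  congr 1
  ext i j
  simp [Matrix.one_apply, apply_ite]

variable {Λ Λ₂ : Type} [Field Λ] [Field Λ₂] [Algebra Λ Λ₂]
variable {V W : Type*} [AddCommGroup V] [AddCommGroup W] [Module Λ V] [Module Λ₂ W]

theorem charRev_conj {V' : Type*} [AddCommGroup V'] [Module Λ V'] (e : V ≃ₗ[Λ] V') (φ : V →ₗ[Λ] V) :
    FinFr.charRev (e.conj φ) = FinFr.charRev φ := by
  classical
  by_cases hV : Module.Finite Λ V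
  · let b := Module.finBasis Λ V
    rw [Groth.Agent.Sga4h.H925.DetInv.charRev_eq b, Groth.Agent.Sga4h.H925.DetInv.charRev_eq (b.map e)]
    congr 1
    ext i j
    rw [LinearMap.toMatrix_apply, LinearMap.toMatrix_apply]
    simp [LinearEquiv.conj_apply]
  · rw [charRev_of_not_finite hV, charRev_of_not_finite]
    intro h
    exact hV (Module.Finite.equiv e.symm)

theorem charRev_baseChange (φ : V →ₗ[Λ] V) :
    FinFr.charRev (φ.baseChange Λ₂) = (FinFr.charRev φ).map (algebraMap Λ Λ₂) := by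
  classical
  by_cases hV : Module.Finite Λ V
  · let b := Module.finBasis Λ V
    rw [Groth.Agent.Sga4h.H925.DetInv.charRev_eq b, Groth.Agent.Sga4h.H925.DetInv.charRev_eq (b.baseChange Λ₂),
      map_charpolyRev]
    congr 1
    ext i j
    rw [LinearMap.toMatrix_apply, Module.Basis.baseChange_apply, LinearMap.baseChange_tmul,
      Module.Basis.baseChange_repr_tmul, Matrix.map_apply, LinearMap.toMatrix_apply, Algebra.smul_def, mul_one]
  · rw [charRev_of_not_finite hV, charRev_of_not_finite, Polynomial.map_one]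
    rwa [finite_baseChange_iff]

theorem charRev_of_isExtMod {s : V →+ W} (h : IsExtMod (Λ := Λ) (Λ₂ := Λ₂) s)
    (φ : V →ₗ[Λ] V) (ψ : W →ₗ[Λ₂] W) (hφ : ∀ v, ψ (s v) = s (φ v)) :
    FinFr.charRev ψ = (FinFr.charRev φ).map (algebraMap Λ Λ₂) := by
  obtain ⟨e, he⟩ := h.exists_equiv_comp φ ψ hφ
  rw [← he, charRev_conj, charRev_baseChange]

end Alg

section Frob

variable {k : Type u} [Field k] {K : Type u} [Field K] [Algebra k K]
variable {X₀ : Scheme.{u}} [Fact FinFr.PullExact.{u}]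
variable {Λ Λ₂ : Type} [Field Λ] [Field Λ₂] [Algebra Λ Λ₂]
variable {L : EtLam.Sheaf Λ X₀} {L₂ : EtLam.Sheaf Λ₂ X₀} {s : L.carrier ⟶ L₂.carrier}

theorem charRev_galLin (a : X₀ ⟶ Spec (CommRingCat.of k)) (h : IsExtSh L L₂ s) (σ : K ≃ₐ[k] K) (n : ℕ) :
    FinFr.charRev (FinFr.galLin a σ L₂ n) = (FinFr.charRev (FinFr.galLin a σ L n)).map (algebraMap Λ Λ₂) :=
  charRev_of_isExtMod ((h.pullback (FinFr.extπ K a)).isExtMod n) _ _ (galLin_map a σ L L₂ s n)

variable [Fintype k] [Algebra.IsAlgebraic k K]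

theorem charRev_frob (a : X₀ ⟶ Spec (CommRingCat.of k)) (h : IsExtSh L L₂ s) (n : ℕ) :
    FinFr.charRev (FinFr.frob (K := K) a L₂ n) =
      (FinFr.charRev (FinFr.frob (K := K) a L n)).map (algebraMap Λ Λ₂) :=
  charRev_galLin a h _ n

theorem charRev_frobC {P₀ : Scheme.{u}} (j : X₀ ⟶ P₀) [IsOpenImmersion j] (b : P₀ ⟶ Spec (CommRingCat.of k))
    (h : IsExtSh L L₂ s) (n : ℕ) :
    FinFr.charRev (FinFr.frobC (K := K) j b L₂ n) =
      (FinFr.charRev (FinFr.frobC (K := K) j b L n)).map (algebraMap Λ Λ₂) :=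
  charRev_frob b (h.extZeroLam j) n

end Frob

section Const

variable {Λ Λ₂ : Type} [CommRing Λ] [CommRing Λ₂] [Algebra Λ Λ₂]

/-- The additive map `Λ → Λ₂` on `ULift`s. -/
def ulMap (f : Λ →+ Λ₂) : ULift.{u + 1} Λ →+ ULift.{u + 1} Λ₂ where
  toFun x := ⟨f x.down⟩
  map_zero' := by ext; simp
  map_add' x y := by ext; simp

def ulMap' (f : Λ₂ →+ Λ) : ULift.{u + 1} Λ₂ →+ ULift.{u + 1} Λ where
  toFun x := ⟨f x.down⟩
  map_zero' := by ext; simp
  map_add' x y := by ext; simp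

theorem isExt_ulift [Module.Finite Λ Λ₂] [Module.Free Λ Λ₂] [Nontrivial Λ] :
    IsExt (Λ := Λ) (Λ₂ := Λ₂) (A := AddCommGrpCat.of (ULift.{u + 1} Λ)) (A₂ := AddCommGrpCat.of (ULift.{u + 1} Λ₂))
      (fun r => AddCommGrpCat.ofHom (DistribSMul.toAddMonoidHom (ULift.{u + 1} Λ) r))
      (fun r => AddCommGrpCat.ofHom (DistribSMul.toAddMonoidHom (ULift.{u + 1} Λ₂) r))
      (AddCommGrpCat.ofHom (ulMap.{u} (algebraMap Λ Λ₂ : Λ →+ Λ₂))) := by
  refine ⟨fun r => ?_, ?_⟩
  · refine AddCommGrpCat.hom_ext (AddMonoidHom.ext fun x => ?_)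
    change (⟨algebraMap Λ Λ₂ (r • x.down)⟩ : ULift.{u + 1} Λ₂) = ⟨algebraMap Λ Λ₂ r • algebraMap Λ Λ₂ x.down⟩
    rw [smul_eq_mul, map_mul, smul_eq_mul]
  · let b := Module.finBasis Λ Λ₂
    refine ⟨Module.finrank Λ Λ₂, b, fun i => AddCommGrpCat.ofHom (ulMap'.{u} ((b.coord i).toAddMonoidHom)),
      fun i j => ?_, ?_⟩
    · refine AddCommGrpCat.hom_ext (AddMonoidHom.ext fun x => ?_)
      have h1 : b.coord j (b i • algebraMap Λ Λ₂ x.down) = if i = j then x.down else 0 := by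
        rw [smul_eq_mul, mul_comm, ← Algebra.smul_def, map_smul, Module.Basis.coord_apply, Module.Basis.repr_self,
          Finsupp.single_apply]
        split_ifs <;> simp
      have h2 : ((AddCommGrpCat.ofHom (ulMap.{u} (algebraMap Λ Λ₂ : Λ →+ Λ₂)) ≫
          AddCommGrpCat.ofHom (DistribSMul.toAddMonoidHom (ULift.{u + 1} Λ₂) (b i))) ≫
            AddCommGrpCat.ofHom (ulMap'.{u} ((b.coord j).toAddMonoidHom))) x =
          (⟨if i = j then x.down else 0⟩ : ULift.{u + 1} Λ) := by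
        rw [← h1]; rfl
      refine h2.trans ?_
      split_ifs <;> rfl
    · have h3 : (∑ i, AddCommGrpCat.ofHom (ulMap'.{u} ((b.coord i).toAddMonoidHom)) ≫
          AddCommGrpCat.ofHom (ulMap.{u} (algebraMap Λ Λ₂ : Λ →+ Λ₂)) ≫
            AddCommGrpCat.ofHom (DistribSMul.toAddMonoidHom (ULift.{u + 1} Λ₂) (b i))) =
          AddCommGrpCat.ofHom (∑ i, (DistribSMul.toAddMonoidHom (ULift.{u + 1} Λ₂) (b i)).comp
            ((ulMap.{u} (algebraMap Λ Λ₂ : Λ →+ Λ₂)).comp (ulMap'.{u} ((b.coord i).toAddMonoidHom)))) := by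
        apply AddCommGrpCat.homAddEquiv.injective
        rw [map_sum]
        rfl
      refine h3.trans ?_
      refine AddCommGrpCat.hom_ext (AddMonoidHom.ext fun x => ?_)
      change (∑ i, (DistribSMul.toAddMonoidHom (ULift.{u + 1} Λ₂) (b i)).comp
            ((ulMap.{u} (algebraMap Λ Λ₂ : Λ →+ Λ₂)).comp (ulMap'.{u} ((b.coord i).toAddMonoidHom)))) x = x
      rw [AddMonoidHom.finsetSum_apply]
      apply ULift.down_injective
      have h4 : ∀ (t : Finset (Fin (Module.finrank Λ Λ₂))) (g : Fin (Module.finrank Λ Λ₂) → ULift.{u + 1} Λ₂),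
          (∑ i ∈ t, g i).down = ∑ i ∈ t, (g i).down := fun t g =>
        map_sum (AddEquiv.ulift : ULift.{u + 1} Λ₂ ≃+ Λ₂) g t
      rw [h4]
      refine Eq.trans (Finset.sum_congr rfl fun i _ => ?_) (b.sum_repr x.down)
      change b i • algebraMap Λ Λ₂ (b.repr x.down i) = b.repr x.down i • b i
      rw [smul_eq_mul, mul_comm, Algebra.smul_def]

/-- The morphism of constant sheaves `Λ ⟶ Λ₂`. -/
noncomputable def constMap (Λ Λ₂ : Type) [CommRing Λ] [CommRing Λ₂] [Algebra Λ Λ₂] (Y : Scheme.{u}) :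
    (FinFr.constLam Λ Y).carrier ⟶ (FinFr.constLam Λ₂ Y).carrier :=
  (constantSheaf Y.smallEtaleTopology AddCommGrpCat.{u + 1}).map
    (AddCommGrpCat.ofHom (ulMap.{u} (algebraMap Λ Λ₂ : Λ →+ Λ₂)))

theorem isExtSh_const (Λ Λ₂ : Type) [CommRing Λ] [CommRing Λ₂] [Algebra Λ Λ₂] [Module.Finite Λ Λ₂]
    [Module.Free Λ Λ₂] [Nontrivial Λ] (Y : Scheme.{u}) :
    IsExtSh (FinFr.constLam Λ Y) (FinFr.constLam Λ₂ Y) (constMap Λ Λ₂ Y) :=
  IsExt.map (isExt_ulift.{u} (Λ := Λ) (Λ₂ := Λ₂)) (constantSheaf Y.smallEtaleTopology AddCommGrpCat.{u + 1})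

end Const

section Main

variable {k : Type u} [Field k] [Fintype k] {K : Type u} [Field K] [Algebra k K] [Algebra.IsAlgebraic k K]
variable {Y : Scheme.{u}} [Fact FinFr.PullExact.{u}]

theorem charRev_frob_const (Λ Λ₂ : Type) [Field Λ] [Field Λ₂] [Algebra Λ Λ₂] [Module.Finite Λ Λ₂]
    (b : Y ⟶ Spec (CommRingCat.of k)) (n : ℕ) :
    FinFr.charRev (FinFr.frob (K := K) b (FinFr.constLam Λ₂ Y) n) =
      (FinFr.charRev (FinFr.frob (K := K) b (FinFr.constLam Λ Y) n)).map (algebraMap Λ Λ₂) :=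
  charRev_frob b (isExtSh_const Λ Λ₂ Y) n

/-- The form used for `S4258`, characteristic `p`. -/
theorem charRev_frob_zmod (p : ℕ) [Fact p.Prime] (Λ : Type) [Field Λ] [Finite Λ] [CharP Λ p]
    (b : Y ⟶ Spec (CommRingCat.of k)) (n : ℕ) :
    FinFr.charRev (FinFr.frob (K := K) b (FinFr.constLam Λ Y) n) =
      (FinFr.charRev (FinFr.frob (K := K) b (FinFr.constLam (ZMod p) Y) n)).map (ZMod.castHom (dvd_refl p) Λ) := by
  let _ : Algebra (ZMod p) Λ := ZMod.algebra Λ p
  exact charRev_frob_const (ZMod p) Λ b n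

end Main

end Groth.Agent.Sga4h.H157.ConstExt
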