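import Groth.Agent.Sga4h.H913.ConstP2
import Groth.Agent.Sga4h.H157.ConstExt

/-!
# Vanishing of `H^n(Y_K, Λ)`, `Λ` a finite field of characteristic `p = char k`

If `H^n(Y, O_Y) = 0` and the coherent cohomology groups of `Y` are finite, then `H^n(Y_K, Λ) = 0` for `K` separably
closed.
-/

set_option autoImplicit false
universe u

open CategoryTheory CategoryTheory.Limits AlgebraicGeometry Opposite CategoryTheory.Abelian

namespace Groth.Agent.Sga4h.H157.VanP

open Groth.Agent.Cohder Groth.Agent.Cohder.GaScalar Groth.Agent.Etcore.PullCoh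
open Groth.Agent.Sga4h.H913 GaFun GaPull GaBC ASX
open Groth.Agent.CurvesA Dict ConstP Groth.Agent.Sga4h.H925.Defs GaZarTr Groth.Agent.Pi1B
open Groth.Agent.Etcore.HpullCalc Groth.Agent.Etcore.HQ TopologicalSpace Groth.Agent.Etbase
open Groth.Agent.Etcore Groth.Agent.Sga4h.H912.CoeffExt Groth.Agent.Sga4h.H912.CoeffSheaf

attribute [local instance] pfl

variable {k : Type u} [Field k] {K : Type u} [Field K] [Algebra k K]

section Short

open scoped Groth.Agent.Etcore.EtInst Groth.Agent.Etbase.ZarEt530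
open Groth.Agent.Etcore.EtInst

variable {X Y : Scheme.{u}} {π : X ⟶ Y} {s : X ⟶ Spec (CommRingCat.of K)} {b : Y ⟶ Spec (CommRingCat.of k)} {p : ℕ}

theorem subsingleton_ga [CompactSpace Y] [QuasiSeparatedSpace Y] (h : IsPullback π s b (FinFr.specι k K)) (n : ℕ)
    (hn : Subsingleton (HH Y (EtCoh.Ga Y) n)) : Subsingleton (HH X (EtCoh.Ga X) n) := by
  let _ := gaMod b n
  let _ := modk k s n
  let _ := gaMod s n
  let _ := isScalarTower_mod (k := k) s n
  have h1 : Subsingleton (TensorProduct k K (HH Y (EtCoh.Ga Y) n)) := inferInstance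
  exact (isBaseChange h n).equiv.symm.injective.subsingleton

theorem subsingleton_hq [CompactSpace Y] [QuasiSeparatedSpace Y] [IsSepClosed K] [Fact p.Prime]
    (h : IsPullback π s b (FinFr.specι k K)) (hY : (p : Γ(Y, ⊤)) = 0) (hK : (p : K) = 0)
    (hfd : ∀ n, letI := gaMod b n; Module.Finite k (HH Y (EtCoh.Ga Y) n)) (n : ℕ)
    (hn : Subsingleton (HH Y (EtCoh.Ga Y) n)) : Subsingleton (HQ (EtCoh.const Y (ZMod p)) π n) := by
  have hX : (p : Γ(X, ⊤)) = 0 := cast_zero s hK
  have := subsingleton_ga h n hn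
  exact (alpha_injective s π hY hX hK (fun m => finite_K h m (hfd m)) n).subsingleton

theorem finite_ga (b : Y ⟶ Spec (CommRingCat.of k)) (n : ℕ) {M : Type u} [AddCommGroup M] [Module k M]
    (e : M →+ ZarEt530.ZH ((ZarUlift.UL (Opens.grothendieckTopology Y)).obj (GaZar.OX Y)) n)
    (he : Function.Bijective e)
    (hs : ∀ (c : k) (x : M), e (c • x) = (e x).comp
      (Ext.mk₀ ((ZarUlift.UL (Opens.grothendieckTopology Y)).map
        (Coh.smulAb (Coh.structureModule Y) (GaScalar.str b c)))) (add_zero n))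
    (hM : Subsingleton M) : Subsingleton (HH Y (EtCoh.Ga Y) n) := by
  let _ := gaMod b n
  obtain ⟨E, -⟩ := exists_linEquiv b n e he hs
  exact E.symm.injective.subsingleton

end Short

/-- Coefficients `ℤ/p`. -/
theorem subsingleton_zmod [IsSepClosed K] (p : ℕ) [Fact p.Prime] (hk : (p : k) = 0) (hK : (p : K) = 0)
    {Y : Scheme.{u}} (b : Y ⟶ Spec (CommRingCat.of k)) [CompactSpace Y] [QuasiSeparatedSpace Y]
    (hfin : letI : Y.Over (Spec (CommRingCat.of k)) := ⟨b⟩
      ∀ n, Module.Finite k (Coh.HH Y (Coh.structureModule Y) n))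
    (n : ℕ) (hn : Subsingleton (Coh.HH Y (Coh.structureModule Y) n)) :
    Subsingleton (HK K b (FinFr.constLam (ZMod p) Y) n) := by
  let _ : Y.Over (Spec (CommRingCat.of k)) := ⟨b⟩
  have hY : (p : Γ(Y, ⊤)) = 0 := cast_zero b hk
  have h1 : ∀ m, letI := gaMod b m; Module.Finite k (EtInst.HH Y (EtCoh.Ga Y) m) := by
    intro m
    have := hfin m
    have hc : Function.Bijective (GaFin104.c1 Y m) := ZarUlift.hMap_bijective _ (GaZar.OX Y) m
    exact finite_short b m (GaFin104.c1 Y m) hc (fun c x => GaFin104.c1_smul m _ x)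
  have h2 : Subsingleton (EtInst.HH Y (EtCoh.Ga Y) n) := by
    have hc : Function.Bijective (GaFin104.c1 Y n) := ZarUlift.hMap_bijective _ (GaZar.OX Y) n
    exact finite_ga b n (GaFin104.c1 Y n) hc (fun c x => GaFin104.c1_smul n _ x) hn
  have h3 := subsingleton_hq (π := FinFr.extπ K b) (s := FinFr.extStr K b)
    (IsPullback.of_hasPullback b (FinFr.specι k K)) hY hK h1 n h2
  exact (toHQ (ZMod p) b n).injective.subsingleton

theorem subsingleton_of_isExtMod {Λ Λ₂ : Type*} [CommRing Λ] [CommRing Λ₂] [Algebra Λ Λ₂] {V W : Type*}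
    [AddCommGroup V] [AddCommGroup W] [Module Λ V] [Module Λ₂ W] {s : V →+ W}
    (h : IsExtMod (Λ := Λ) (Λ₂ := Λ₂) s) (hV : Subsingleton V) : Subsingleton W := by
  obtain ⟨d, b, p, -, h2⟩ := h.ex
  refine ⟨fun x y => ?_⟩
  rw [← h2 x, ← h2 y]
  exact Finset.sum_congr rfl fun i _ => by rw [Subsingleton.elim (p i x) (p i y)]

/-- **Vanishing**, `Λ` a finite field of characteristic `p`. -/
theorem subsingleton_HK [IsSepClosed K] (p : ℕ) [Fact p.Prime] (hk : (p : k) = 0) (hK : (p : K) = 0)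
    (Λ : Type) [Field Λ] [Finite Λ] [CharP Λ p]
    {Y : Scheme.{u}} (b : Y ⟶ Spec (CommRingCat.of k)) [CompactSpace Y] [QuasiSeparatedSpace Y]
    (hfin : letI : Y.Over (Spec (CommRingCat.of k)) := ⟨b⟩
      ∀ n, Module.Finite k (Coh.HH Y (Coh.structureModule Y) n))
    (n : ℕ) (hn : Subsingleton (Coh.HH Y (Coh.structureModule Y) n)) :
    Subsingleton (HK K b (FinFr.constLam Λ Y) n) := by
  let _ : Algebra (ZMod p) Λ := ZMod.algebra Λ p
  exact subsingleton_of_isExtMod
    (((Groth.Agent.Sga4h.H157.ConstExt.isExtSh_const (ZMod p) Λ Y).pullback (FinFr.extπ K b)).isExtMod n)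
    (subsingleton_zmod p hk hK b hfin n hn)

end Groth.Agent.Sga4h.H157.VanP
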